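import Cfsg.Agent.H682.S8.OutW
import Cfsg.Agent.S2062
import Cfsg.Agent.H55.OutGen
import Cfsg.Agent.H968.TwoM22
import Cfsg.Agent.H904.SylOne
import Cfsg.Agent.SporadicA.M11Comp
import Cfsg.Agent.H424.DegTools

/-!
# S4908, `M₂₂`, the row OUT (helper682)

`x ↦ 2 x` has order 11 and is inverted by `x ↦ - 1 / x`, which exchanges the two points.
-/

set_option autoImplicit false
set_option maxRecDepth 100000

namespace Cfsg.Agent.H682.S8.M22

open Cfsg Cfsg.Agent.J4Type.Aut22 Cfsg.Agent.SporadicA.M11Comp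

universe u v

theorem OutRow3.congr {c : ℕ} {X : Type u} {Y : Type v} [Group X] [Group Y] (e : X ≃* Y) (h : H704.S8.OutRow3 c Y) :
    H704.S8.OutRow3 c X := by
  refine ⟨?_, fun hc => ?_⟩
  · rw [← H55.OutGen.card_out_eq_index, H55.OutGen.card_out_congr e, H55.OutGen.card_out_eq_index]
    exact h.1
  · rw [H424.DegTools.charDegrees_congr e, H424.DegTools.charDegrees_congr (MulAut.congr e)]
    exact h.2 hc

theorem dbl_mem22 : dbl ∈ Spor.M22 := by
  rw [SporadicA.MathieuRecog.mem_M22_iff]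
  refine ⟨dbl_mem, ?_, ?_⟩
  · rfl
  · decide

theorem projInv_mem_D22 : projInv ∈ D22 := by
  rw [mem_D22_iff]
  refine ⟨Cfsg.Agent.S0372.result, Or.inr ⟨?_, ?_⟩⟩
  · rfl
  · decide

theorem dbl_pow : dbl ^ 11 = 1 := by
  ext x : 1
  revert x
  decide +kernel

theorem dbl_ne : dbl ≠ 1 := by
  intro h
  have h1 : dbl (some 1) = some 1 := by rw [h]; rfl
  revert h1
  decide +kernel

theorem conj_dbl : projInv * dbl * projInv⁻¹ = dbl ^ 10 := by
  ext x : 1
  revert x
  decide +kernel

def w : Spor.M22 := ⟨dbl, dbl_mem22⟩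

theorem order_w : orderOf w = 11 := by
  have f11 : Fact (Nat.Prime 11) := ⟨by norm_num⟩
  refine orderOf_eq_prime ?_ ?_
  · exact Subtype.ext (by
      change dbl ^ 11 = 1
      exact dbl_pow)
  · intro h
    exact dbl_ne (congrArg Subtype.val h)

theorem cent_w : Nat.card (Subgroup.centralizer ({w} : Set Spor.M22)) = 11 := by
  have f11 : Fact (Nat.Prime 11) := ⟨by norm_num⟩
  have hcard : Nat.card Spor.M22 = 443520 := Cfsg.Agent.SporadicA.MathieuRecog.card_M22
  have : Finite Spor.M22 := Nat.finite_of_card_ne_zero (by rw [hcard]; norm_num)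
  obtain ⟨x, hx, hc⟩ := H968.TwoM22.three.eleven
  have h1 := H904.SylOne.card_centralizer_eq (p := 11) (P := Subgroup.zpowers w) (Q := Subgroup.zpowers x)
    (by rw [Nat.card_zpowers, order_w]) (by rw [Nat.card_zpowers, hx]) (by rw [hcard]; norm_num)
  rw [H904.SylOne.centralizer_zpowers_eq, H904.SylOne.centralizer_zpowers_eq] at h1
  refine le_antisymm (by omega) ?_
  have h2 : Subgroup.zpowers w ≤ Subgroup.centralizer ({w} : Set Spor.M22) :=
    Subgroup.zpowers_le.2 (Subgroup.mem_centralizer_singleton_iff.2 rfl)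
  have h3 := Subgroup.card_le_of_le h2
  rwa [Nat.card_zpowers, order_w] at h3

theorem center_bot : Subgroup.center Spor.M22 = ⊥ := by
  rw [eq_bot_iff]
  intro z hz
  rw [Subgroup.mem_bot]
  have h1 : KFacts.MM.OutAut.emb (MulAut.conj z) = KFacts.MM.OutAut.emb 1 := by
    congr 1
    ext y : 1
    rw [MulAut.conj_apply, MulAut.one_apply, ← Subgroup.mem_center_iff.1 hz y, mul_inv_cancel_right]
  rw [KFacts.MM.OutAut.emb_conj, map_one] at h1
  exact Subtype.ext h1

theorem out_model : H704.S8.OutRow3 2 Spor.M22 := by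
  have f11 : Fact (Nat.Prime 11) := ⟨by norm_num⟩
  have hcard : Nat.card Spor.M22 = 443520 := Cfsg.Agent.SporadicA.MathieuRecog.card_M22
  have : Finite Spor.M22 := Nat.finite_of_card_ne_zero (by rw [hcard]; norm_num)
  refine outRow3_of_auto (q := 11) center_bot ?_ (by norm_num) order_w cent_w
    (by rw [hcard]; norm_num) (by rw [hcard]) (k := 10) (by norm_num)
    (β := KFacts.MM.OutAut.autOf projInv projInv_mem_D22) ?_
  · rw [← H55.OutGen.card_out_eq_index]
    exact S2062.result
  · apply Subtype.ext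
    change projInv * dbl * projInv⁻¹ = _
    rw [conj_dbl]
    rfl

/-- **S4908, `M₂₂`, the row OUT** -/
theorem out {X : Type u} [Group X] (h : Spor.IsoM22 X) : H704.S8.OutRow3 2 X := by
  obtain ⟨e⟩ := h
  exact OutRow3.congr e out_model

end Cfsg.Agent.H682.S8.M22
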