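import Cfsg.Agent.H682.S8.OutW
import Cfsg.Agent.KFacts.HS.Base
import Cfsg.Agent.H904.HSIso

/-!
# S4908, `HS`, the row OUT (helper682)

`w = [s, u]`, `s = (y z) ^ 5`, `u = x y x y y`, has order 11, and the outer automorphism `s` inverts it.
-/

set_option autoImplicit false
set_option maxRecDepth 100000

namespace Cfsg.Agent.H682.S8.HS

open Cfsg Cfsg.Agent.HN Cfsg.Agent.HN.Pres Cfsg.Agent.HN.HS100 Cfsg.Agent.HN.H0Basic Cfsg.Agent.HN.DoubleCover Equiv
open Cfsg.Agent.KFacts.HS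

universe v

/-- the outer element -/
def s : H0 := (gy * gz) ^ 5

def u : H0 := gx * gy * gx * gy * gy

theorem mem_K : s * u * s⁻¹ * u⁻¹ ∈ K := by
  change sgn (s * u * s⁻¹ * u⁻¹) = 1
  rw [map_mul, map_mul, map_mul, map_inv, map_inv, mul_comm (sgn s) (sgn u), mul_inv_cancel_right, mul_inv_cancel]

def w0 : K := ⟨s * u * s⁻¹ * u⁻¹, mem_K⟩

def S : Perm (Fin 100) := (Y * Z) ^ 5

def U : Perm (Fin 100) := X * Y * X * Y * Y

theorem φ_s : φ s = S := by rw [s, S, map_pow, map_mul, φ_gy, φ_gz]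

theorem φ_u : φ u = U := by rw [u, U]; simp only [map_mul, φ_gx, φ_gy]

theorem φ_w : φ (w0 : H0) = S * U * S⁻¹ * U⁻¹ := by
  change φ (s * u * s⁻¹ * u⁻¹) = _
  rw [map_mul, map_mul, map_mul, map_inv, map_inv, φ_s, φ_u]

theorem S_sq : S * S = 1 := by
  refine Equiv.ext fun i => Fin.ext ?_
  revert i
  decide +kernel

theorem W_pow : (S * U * S⁻¹ * U⁻¹) ^ 11 = 1 := by
  refine Equiv.ext fun i => Fin.ext ?_
  revert i
  decide +kernel

theorem W_ne : S * U * S⁻¹ * U⁻¹ ≠ 1 := by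
  intro h
  have h1 : (((S * U * S⁻¹ * U⁻¹) 0 : Fin 100) : ℕ) = ((1 : Perm (Fin 100)) 0 : Fin 100) := by rw [h]
  revert h1
  decide +kernel

theorem conj_s : S * (S * U * S⁻¹ * U⁻¹) * S⁻¹ = (S * U * S⁻¹ * U⁻¹) ^ 10 := by
  have h1 : S * (S * U * S⁻¹ * U⁻¹) * S⁻¹ * (S * U * S⁻¹ * U⁻¹) = 1 := by
    have h2 : S⁻¹ = S := inv_eq_of_mul_eq_one_left S_sq
    calc S * (S * U * S⁻¹ * U⁻¹) * S⁻¹ * (S * U * S⁻¹ * U⁻¹) = (S * S) * U * S⁻¹ * U⁻¹ * (S⁻¹ * S) * U * S⁻¹ * U⁻¹ := by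
          group
      _ = U * (S⁻¹ * S⁻¹) * U⁻¹ := by rw [S_sq]; group
      _ = 1 := by rw [h2, S_sq]; group
  have h3 := W_pow
  rw [pow_succ] at h3
  rw [eq_inv_of_mul_eq_one_left h1, eq_inv_of_mul_eq_one_left h3]

section L

variable {L : Type v} [Group L]

theorem π_eq (D : KFacts.HS.Mod L) {x y : K} (h : φ (x : H0) = φ (y : H0)) : D.π x = D.π y := by
  rw [← inv_mul_eq_one, ← map_inv, ← map_mul, D.ker]
  have h1 : φ (((x⁻¹ * y : K)) : H0) = 1 := by
    rw [Subgroup.coe_mul, Subgroup.coe_inv, map_mul, map_inv, h, inv_mul_cancel]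
  exact φ_eq_one_iff.1 h1

theorem center_bot (h : Spor.IsoHS L) : Subgroup.center L = ⊥ := by
  obtain ⟨e⟩ := h
  obtain ⟨⟨f⟩, hs⟩ := AutHS.nonempty_Q
  have hsL : IsSimpleGroup L := by
    have : Nontrivial L := (f.trans e.symm).injective.nontrivial
    exact IsSimpleGroup.isSimpleGroup_of_surjective (f.trans e.symm).toMonoidHom (f.trans e.symm).surjective
  have hcard := KFacts.HS.card ⟨e⟩
  have : Finite L := Nat.finite_of_card_ne_zero (by rw [hcard]; norm_num)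
  have hn : (Subgroup.center L).Normal := inferInstance
  rcases hn.eq_bot_or_eq_top with h | h
  · exact h
  · exfalso
    have hcomm : ∀ a b : L, a * b = b * a := fun a b => by
      have : b ∈ Subgroup.center L := by rw [h]; trivial
      exact Subgroup.mem_center_iff.1 this a
    let _ : CommGroup L := { (inferInstance : Group L) with mul_comm := hcomm }
    have h1 : (Nat.card L).Prime := IsSimpleGroup.prime_card
    rw [hcard] at h1
    norm_num at h1

/-- **S4908, `HS`, the row OUT** -/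
theorem out (h : Spor.IsoHS L) : H704.S8.OutRow3 2 L := by
  have hcard := KFacts.HS.card h
  have : Finite L := Nat.finite_of_card_ne_zero (by rw [hcard]; norm_num)
  have f11 : Fact (Nat.Prime 11) := ⟨by norm_num⟩
  obtain ⟨D⟩ := exists_mod h
  have h1 : D.π w0 ^ 11 = 1 := by
    rw [← map_pow, ← map_one D.π]
    refine π_eq D ?_
    rw [Subgroup.coe_pow, map_pow, φ_w, W_pow, Subgroup.coe_one, map_one]
  have h2 : D.π w0 ≠ 1 := by
    intro h2
    rw [D.ker] at h2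
    exact W_ne (by rw [← φ_w]; exact φ_eq_one_iff.2 h2)
  have hw : orderOf (D.π w0) = 11 := orderOf_eq_prime h1 h2
  refine outRow3_of_auto (q := 11) (center_bot h) (KFacts.HS.index_inn h) (by norm_num) hw
    (H904.HSIso.card_eleven h hw) (by rw [hcard]; norm_num) (by rw [hcard]) (k := 10) (by norm_num)
    (β := D.au s) ?_
  rw [D.au_π, ← map_pow]
  refine π_eq D ?_
  rw [Subgroup.coe_pow, map_pow, φ_w]
  change φ (s * (w0 : H0) * s⁻¹) = _
  rw [map_mul, map_mul, map_inv, φ_w, φ_s, conj_s]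

end L

end Cfsg.Agent.H682.S8.HS
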