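import Cfsg.Agent.H587.S8.Out
import Cfsg.Agent.H704.S8.Defs3

/-!
# S4908, the OUT rows: an automorphism moving the classes of elements of order `q` (helper682)

`X` has centre `1`, `|Out X| = 2`, `w ∈ X` of prime order `q` with centraliser of order `q`, `|X| / q ≡ (q - 1)/2 (mod q)`,
and some automorphism maps `w` to `w ^ k`, `k` no square modulo `q`: then `X` and `Aut X` have different degrees.
-/

set_option autoImplicit false

namespace Cfsg.Agent.H682.S8

open Cfsg Subgroup

universe v

/-- `w` is not conjugate in `X` to a power with a nonsquare exponent -/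
theorem not_conj_pow {X : Type v} [Group X] [Finite X] {q : ℕ} [hq : Fact q.Prime] {w : X} (hw : orderOf w = q)
    (hc : Nat.card (centralizer ({w} : Set X)) = q) (hqq : ¬ q ^ 2 ∣ Nat.card X)
    (he : Nat.card X / q % q = (q - 1) / 2) {k : ℕ} (hk : k ^ ((q - 1) / 2) % q ≠ 1) (hq3 : 3 ≤ q) (h : X) :
    h * w * h⁻¹ ≠ w ^ k := by
  intro hh
  have hpr : q.Prime := Fact.out
  have hRp : IsPGroup q (zpowers w) := IsPGroup.of_card (n := 1) (by rw [Nat.card_zpowers, hw, pow_one])
  obtain ⟨P, hP⟩ := hRp.exists_le_sylow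
  have hPc : Nat.card P = q := by
    obtain ⟨j, hj⟩ := IsPGroup.iff_card.1 P.isPGroup'
    have h1 := Subgroup.card_dvd_of_le hP
    rw [Nat.card_zpowers, hw, hj] at h1
    have h2 : j ≤ 1 := by
      by_contra h
      exact hqq (((pow_dvd_pow q (by omega : 2 ≤ j)).trans (dvd_of_eq hj.symm)).trans (Subgroup.card_subgroup_dvd_card _))
    have h3 : j ≠ 0 := by
      rintro rfl
      rw [pow_zero] at h1
      exact hpr.one_lt.ne' (Nat.dvd_one.1 h1)
    have h4 : j = 1 := by omega
    rw [hj, h4, pow_one]
  have hRP : zpowers w = (P : Subgroup X) :=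
    Subgroup.eq_of_le_of_card_ge hP (by rw [Nat.card_zpowers, hw]; exact hPc.le)
  have hcc : centralizer ((P : Subgroup X) : Set X) = centralizer ({w} : Set X) := by
    rw [← hRP, Subgroup.zpowers_eq_closure, Subgroup.centralizer_closure]
  have hCc : Nat.card (centralizer ((P : Subgroup X) : Set X)) = q := by rw [hcc, hc]
  obtain ⟨e₀, he₀⟩ : ∃ e₀, (centralizer ((P : Subgroup X) : Set X)).relIndex
      (normalizer ((P : Subgroup X) : Set X)) = e₀ := ⟨_, rfl⟩
  have h1 := Blocks.CyclicClasses.card_cls P hPc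
  rw [he₀] at h1
  have h2 : e₀ < q := by
    have h3 : e₀ ∣ q - 1 := Dvd.intro_left _ h1
    have h4 := Nat.le_of_dvd (by have := hpr.two_le; omega) h3
    have := hpr.two_le
    omega
  have h3 : Nat.card (normalizer ((P : Subgroup X) : Set X)) = q * e₀ := by
    have h4 := Subgroup.relIndex_mul_relIndex ⊥ (centralizer ((P : Subgroup X) : Set X))
      (normalizer ((P : Subgroup X) : Set X)) bot_le (centralizer_le_normalizer _)
    rw [Subgroup.relIndex_bot_left, Subgroup.relIndex_bot_left, hCc, he₀] at h4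
    exact h4.symm
  have h4 := card_sylow_modEq_one q X
  rw [Sylow.card_eq_index_normalizer P] at h4
  have h5 := (normalizer ((P : Subgroup X) : Set X)).index_mul_card
  rw [h3] at h5
  have h6 : Nat.card X / q = (normalizer ((P : Subgroup X) : Set X)).index * e₀ := by
    rw [← h5, show (normalizer ((P : Subgroup X) : Set X)).index * (q * e₀) =
      q * ((normalizer ((P : Subgroup X) : Set X)).index * e₀) by ring, Nat.mul_div_cancel_left _ hpr.pos]
  have h7 : e₀ = (q - 1) / 2 := by
    have h8 : (normalizer ((P : Subgroup X) : Set X)).index * e₀ ≡ 1 * e₀ [MOD q] := h4.mul_right e₀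
    rw [← h6, one_mul] at h8
    have h9 : Nat.card X / q % q = e₀ % q := h8
    rw [he, Nat.mod_eq_of_lt h2] at h9
    exact h9.symm
  -- `h` normalises `P`
  have hpow : ∀ n : ℕ, h ^ n * w * (h ^ n)⁻¹ = w ^ (k ^ n) := by
    intro n
    induction n with
    | zero => simp
    | succ n ih =>
      calc h ^ (n + 1) * w * (h ^ (n + 1))⁻¹ = h ^ n * (h * w * h⁻¹) * (h ^ n)⁻¹ := by group
        _ = (h ^ n * w * (h ^ n)⁻¹) ^ k := by rw [hh, conj_pow]
        _ = w ^ (k ^ (n + 1)) := by rw [ih, ← pow_mul, pow_succ]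
  have hkq : ¬ q ∣ k := by
    rintro ⟨c, rfl⟩
    rw [pow_mul, ← hw, pow_orderOf_eq_one, one_pow, mul_inv_eq_one] at hh
    have : w = 1 := by simpa using hh
    rw [this, orderOf_one] at hw
    omega
  have hN : h ∈ normalizer ((P : Subgroup X) : Set X) := by
    rw [← hRP]
    rw [mem_normalizer_iff]
    have hle : ∀ x ∈ zpowers w, h * x * h⁻¹ ∈ zpowers w := by
      intro x hx
      obtain ⟨i, rfl⟩ := mem_zpowers_iff.1 hx
      rw [← conj_zpow, hh]
      exact zpow_mem (pow_mem (mem_zpowers w) k) i
    intro x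
    refine ⟨hle x, fun hx => ?_⟩
    -- the map is injective on a finite set
    have hmap : (zpowers w).map (MulAut.conj h).toMonoidHom = zpowers w := by
      refine Subgroup.eq_of_le_of_card_ge ?_ ?_
      · rintro _ ⟨y, hy, rfl⟩
        exact hle y hy
      · rw [Nat.card_congr ((zpowers w).equivMapOfInjective (MulAut.conj h).toMonoidHom (MulAut.conj h).injective).toEquiv]
    rw [← hmap] at hx
    obtain ⟨y, hy, hxy⟩ := hx
    have : y = x := (MulAut.conj h).injective hxy
    rwa [← this]
  have hNC : h ^ e₀ ∈ centralizer ((P : Subgroup X) : Set X) := by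
    have hn : ((centralizer ((P : Subgroup X) : Set X)).subgroupOf (normalizer ((P : Subgroup X) : Set X))).Normal := by
      infer_instance
    have h8 := Subgroup.pow_index_mem
      ((centralizer ((P : Subgroup X) : Set X)).subgroupOf (normalizer ((P : Subgroup X) : Set X))) ⟨h, hN⟩
    rw [mem_subgroupOf] at h8
    rw [← he₀]
    exact h8
  rw [hcc, mem_centralizer_singleton_iff] at hNC
  have h8 := hpow e₀
  rw [hNC, mul_inv_cancel_right] at h8
  have h9 : w ^ (k ^ e₀) = w ^ 1 := by rw [← h8, pow_one]
  rw [pow_inj_mod, hw, Nat.mod_eq_of_lt (show 1 < q by omega), h7] at h9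
  exact hk h9

/-- the centraliser in `Aut X` -/
theorem card_centralizer_aut {X : Type v} [Group X] [Finite X] (hcen : Subgroup.center X = ⊥)
    (hidx : (MulAut.conj : X →* MulAut X).range.index = 2) {q : ℕ} [hq : Fact q.Prime] {w : X} (hw : orderOf w = q)
    (hc : Nat.card (centralizer ({w} : Set X)) = q) (hqq : ¬ q ^ 2 ∣ Nat.card X)
    (he : Nat.card X / q % q = (q - 1) / 2) {k : ℕ} (hk : k ^ ((q - 1) / 2) % q ≠ 1) (hq3 : 3 ≤ q) {β : MulAut X}
    (hβ : β w = w ^ k) : Nat.card (centralizer ({MulAut.conj w} : Set (MulAut X))) = q := by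
  have hinj : Function.Injective (MulAut.conj : X →* MulAut X) := by
    rw [injective_iff_map_eq_one]
    intro a ha
    rw [← Subgroup.mem_bot, ← hcen, Subgroup.mem_center_iff]
    intro y
    have h1 : MulAut.conj a y = y := by rw [ha]; rfl
    rw [MulAut.conj_apply, mul_inv_eq_iff_eq_mul] at h1
    exact h1.symm
  have hnc := fun h => not_conj_pow hw hc hqq he hk hq3 h
  have hle : centralizer ({MulAut.conj w} : Set (MulAut X)) = (centralizer ({w} : Set X)).map MulAut.conj := by
    ext γ
    constructor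
    · intro hγ
      rw [mem_centralizer_singleton_iff] at hγ
      have hγw : γ w = w := by
        apply hinj
        have h1 : MulAut.conj (γ w) = γ * MulAut.conj w * γ⁻¹ := by
          ext y
          simp [MulAut.conj_apply]
        rw [h1, hγ, mul_inv_cancel_right]
      have hI : γ ∈ (MulAut.conj : X →* MulAut X).range := by
        by_contra hγI
        -- `β ∈ I` or `γ⁻¹ β ∈ I`
        by_cases hβI : β ∈ (MulAut.conj : X →* MulAut X).range
        · obtain ⟨h, rfl⟩ := hβI
          exact hnc h (by rw [← MulAut.conj_apply]; exact hβ)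
        · have h1 : γ⁻¹ * β ∈ (MulAut.conj : X →* MulAut X).range := by
            rw [Subgroup.mul_mem_iff_of_index_two hidx]
            exact ⟨fun h => absurd (inv_mem_iff.1 h) hγI, fun h => absurd h hβI⟩
          obtain ⟨h, hh⟩ := h1
          refine hnc h ?_
          have h2 : γ⁻¹ w = w := by
            conv_lhs => rw [← hγw]
            exact MulAut.inv_apply_self X γ w
          rw [← MulAut.conj_apply, hh, MulAut.mul_apply, hβ, map_pow, h2]
      obtain ⟨h, rfl⟩ := hI
      refine ⟨h, ?_, rfl⟩
      rw [SetLike.mem_coe, mem_centralizer_singleton_iff]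
      rw [MulAut.conj_apply, mul_inv_eq_iff_eq_mul] at hγw
      exact hγw
    · rintro ⟨h, hh, rfl⟩
      rw [SetLike.mem_coe, mem_centralizer_singleton_iff] at hh
      rw [mem_centralizer_singleton_iff, ← map_mul, ← map_mul, hh]
  rw [hle, Nat.card_congr ((centralizer ({w} : Set X)).equivMapOfInjective _ hinj).symm.toEquiv, hc]

/-- **OUT** from an automorphism moving a class of elements of order `q` -/
theorem outRow3_of_auto {X : Type v} [Group X] [Finite X] (hcen : Subgroup.center X = ⊥)
    (hidx : (MulAut.conj : X →* MulAut X).range.index = 2) {q : ℕ} [hq : Fact q.Prime] (h5 : 5 ≤ q) {w : X}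
    (hw : orderOf w = q) (hc : Nat.card (centralizer ({w} : Set X)) = q) (hqq : ¬ q ^ 2 ∣ Nat.card X)
    (he : Nat.card X / q % q = (q - 1) / 2) {k : ℕ} (hk : k ^ ((q - 1) / 2) % q ≠ 1) {β : MulAut X}
    (hβ : β w = w ^ k) : H704.S8.OutRow3 2 X := by
  have hinj : Function.Injective (MulAut.conj : X →* MulAut X) := by
    rw [injective_iff_map_eq_one]
    intro a ha
    rw [← Subgroup.mem_bot, ← hcen, Subgroup.mem_center_iff]
    intro y
    have h1 : MulAut.conj a y = y := by rw [ha]; rfl
    rw [MulAut.conj_apply, mul_inv_eq_iff_eq_mul] at h1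
    exact h1.symm
  have hA : Nat.card (MulAut X) = 2 * Nat.card X := by
    rw [← (MulAut.conj : X →* MulAut X).range.index_mul_card, hidx,
      Nat.card_congr (MonoidHom.ofInjective hinj).symm.toEquiv]
  refine ⟨hidx.le, fun _ h => ?_⟩
  exact H587.S8.not_subset h5 hw hc hqq he (a := MulAut.conj w)
    (by rw [orderOf_injective _ hinj, hw]) (card_centralizer_aut hcen hidx hw hc hqq he hk (by omega) hβ) hA h.le

end Cfsg.Agent.H682.S8
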